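import Mathlib.Data.Nat.Find
import Mathlib.Data.Fintype.EquivFin
import Mathlib.Algebra.Module.Injective
import Mathlib.LinearAlgebra.FiniteDimensional.Lemmas
import Mathlib.Data.Int.ModEq
import Mathlib.LinearAlgebra.Dual.Lemmas
import Mathlib.LinearAlgebra.Basis.VectorSpace

/-! Apéry sets of numerical semigroups; rings with a nondegenerate functional are self-injective. -/

namespace Groth.Agent.Lib.FunFld.Sect.Apery

/-- A numerical semigroup as a predicate. -/
structure IsSemigp (H : ℕ → Prop) : Prop where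
  zero : H 0
  add : ∀ {a b}, H a → H b → H (a + b)
  cofinal : ∃ N, ∀ n, N ≤ n → H n

variable {H : ℕ → Prop} (hH : IsSemigp H) {m : ℕ} (hm : 0 < m)
include hH hm

theorem exists_rep (i : Fin m) : ∃ n, n % m = i ∧ H n := by
  obtain ⟨N, hN⟩ := hH.cofinal
  exact ⟨(i : ℕ) + N * m, by rw [Nat.add_mul_mod_self_right, Nat.mod_eq_of_lt i.2],
    hN _ (le_add_left (Nat.le_mul_of_pos_right N hm))⟩

open scoped Classical in
/-- The least element of `H` in a residue class. -/
noncomputable def w (i : Fin m) : ℕ := Nat.find (exists_rep hH hm i)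

theorem w_mem (i : Fin m) : H (w hH hm i) := by
  classical exact (Nat.find_spec (exists_rep hH hm i)).2

theorem w_mod (i : Fin m) : w hH hm i % m = i := by
  classical exact (Nat.find_spec (exists_rep hH hm i)).1

theorem w_le {i : Fin m} {n : ℕ} (hn : H n) (h : n % m = i) : w hH hm i ≤ n := by
  classical exact Nat.find_min' _ ⟨h, hn⟩

theorem w_injective : Function.Injective (w hH hm) := fun i j h =>
  Fin.ext (by rw [← w_mod hH hm i, ← w_mod hH hm j, h])

/-- `w i - m` is a gap. -/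
theorem not_mem_sub (i : Fin m) (h : m ≤ w hH hm i) : ¬ H (w hH hm i - m) := fun hn => by
  have := w_le hH hm hn (i := i) (by rw [← Nat.mod_eq_sub_mod h, w_mod hH hm i])
  omega

theorem eq_w_of_not_sub {n : ℕ} (hn : H n) (h : ∀ l, l + m = n → ¬ H l) (hHm : H m) :
    ∃ i, w hH hm i = n := by
  refine ⟨⟨n % m, Nat.mod_lt n hm⟩, ?_⟩
  set i : Fin m := ⟨n % m, Nat.mod_lt n hm⟩
  have hle := w_le hH hm hn (i := i) rfl
  rcases eq_or_lt_of_le hle with h' | h'
  · exact h'
  exfalso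
  obtain ⟨q, hq⟩ : m ∣ n - w hH hm i := (Nat.modEq_iff_dvd' hle).mp (w_mod hH hm i)
  obtain ⟨q', rfl⟩ : ∃ q', q = q' + 1 := ⟨q - 1, by
    rcases Nat.eq_zero_or_pos q with rfl | h0 <;> [omega; omega]⟩
  rw [Nat.mul_succ] at hq
  refine h (w hH hm i + m * q') (by omega) ?_
  clear hq h' hle
  induction q' with
  | zero => simpa using w_mem hH hm i
  | succ q ih => rw [Nat.mul_succ, ← add_assoc]; exact hH.add ih hHm

omit hm in
/-- A symmetric semigroup pairs its Apéry set with itself. -/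
theorem frob_props {d : ℤ} (h : ∀ n : ℤ, (∃ h, H h ∧ (h : ℤ) = n) ↔ ¬ ∃ h, H h ∧ (h : ℤ) = d - n) :
    (¬ ∃ h, H h ∧ (h : ℤ) = d) ∧ ∀ n : ℕ, d < n → H n := by
  refine ⟨fun hd => (h d).mp hd ⟨0, hH.zero, by simp⟩, fun n hn => ?_⟩
  obtain ⟨l, hl, he⟩ := (h n).mpr (by rintro ⟨l, -, hl⟩; omega)
  rwa [Int.ofNat_inj.mp he] at hl

theorem symmetric_pair (hHm : H m) {d : ℤ}
    (h : ∀ n : ℤ, (∃ h, H h ∧ (h : ℤ) = n) ↔ ¬ ∃ h, H h ∧ (h : ℤ) = d - n) :
    ∃ (top : Fin m) (op : Fin m → Fin m), ∀ i, w hH hm i + w hH hm (op i) = w hH hm top := by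
  obtain ⟨hd, hbig⟩ := frob_props hH h
  have hd0 : 0 ≤ d + m := by
    by_contra hneg
    obtain ⟨l, -, hl⟩ : ∃ l, H l ∧ (l : ℤ) = -1 :=
      (h (-1)).mpr (by rintro ⟨l, -, hl⟩; omega)
    omega
  obtain ⟨W, hW⟩ : ∃ W : ℕ, (W : ℤ) = d + m := ⟨(d + m).toNat, by omega⟩
  obtain ⟨top, htop⟩ := eq_w_of_not_sub hH hm (hbig W (by omega))
    (fun l hl hHl => hd ⟨l, hHl, by omega⟩) hHm
  have hop : ∀ i, ∃ j, w hH hm i + w hH hm j = W := by
    intro i
    have hgap : ¬ ∃ l, H l ∧ (l : ℤ) = (w hH hm i : ℤ) - m := by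
      rintro ⟨l, hl, hle⟩
      exact not_mem_sub hH hm i (by omega) (by rwa [show w hH hm i - m = l by omega])
    obtain ⟨v, hv, hve⟩ := not_not.mp (mt (h _).mpr hgap)
    obtain ⟨j, hj⟩ := eq_w_of_not_sub hH hm hv
      (fun l hl hHl => (h (w hH hm i)).mp ⟨_, w_mem hH hm i, rfl⟩ ⟨l, hHl, by omega⟩) hHm
    exact ⟨j, by omega⟩
  choose op hop using hop
  exact ⟨top, op, fun i => by rw [hop, htop]⟩

/-- A unique maximal element of the Apéry set gives symmetry. -/
theorem symmetric_of_unique (hHm : H m)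
    (huniq : ∀ i i' : Fin m, (∀ j l, 0 < l → H l → w hH hm i + l ≠ w hH hm j) →
      (∀ j l, 0 < l → H l → w hH hm i' + l ≠ w hH hm j) → i = i') :
    ∃ d : ℤ, ∀ n : ℤ, (∃ h, H h ∧ (h : ℤ) = n) ↔ ¬ ∃ h, H h ∧ (h : ℤ) = d - n := by
  classical
  have : Nonempty (Fin m) := ⟨⟨0, hm⟩⟩
  obtain ⟨top, htop⟩ := Finite.exists_max (w hH hm)
  have hmax : ∀ j l, 0 < l → H l → w hH hm top + l ≠ w hH hm j := fun j l hl _ => by
    have := htop j; omega
  have hbelow : ∀ (r : ℕ) (i : Fin m), w hH hm top - w hH hm i ≤ r →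
      ∃ l, H l ∧ w hH hm i + l = w hH hm top := by
    intro r
    induction r using Nat.strong_induction_on with
    | _ r ih =>
    intro i hr
    by_cases hi : ∀ j l, 0 < l → H l → w hH hm i + l ≠ w hH hm j
    · exact ⟨0, hH.zero, by rw [huniq i top hi hmax, add_zero]⟩
    push Not at hi
    obtain ⟨j, l, hl, hHl, he⟩ := hi
    obtain ⟨l', hl', he'⟩ := ih (w hH hm top - w hH hm j) (by have := htop j; omega) j le_rfl
    exact ⟨l + l', hH.add hHl hl', by omega⟩
  refine ⟨(w hH hm top : ℤ) - m, fun n => ⟨?_, fun hn => ?_⟩⟩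
  · rintro ⟨a, ha, rfl⟩ ⟨b, hb, he⟩
    refine not_mem_sub hH hm top (by omega) ?_
    rw [show w hH hm top - m = a + b by omega]
    exact hH.add ha hb
  · by_contra hno
    refine hn ?_
    -- the least element of `H` above `n` in its class
    obtain ⟨i, hi⟩ : ∃ i : Fin m, ((i : ℕ) : ℤ) = n % m :=
      ⟨⟨(n % m).toNat, by have := Int.emod_lt_of_pos n (b := (m : ℤ)) (by omega); omega⟩,
        Int.toNat_of_nonneg (Int.emod_nonneg n (by omega))⟩
    have hmod : (w hH hm i : ℤ) % m = n % m := by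
      rw [← hi, ← w_mod hH hm i, Int.natCast_mod]
    obtain ⟨q, hq⟩ : (m : ℤ) ∣ (w hH hm i : ℤ) - n := Int.modEq_iff_dvd.mp hmod.symm
    have hmul : ∀ c : ℕ, H (m * c) := fun c => by
      induction c with
      | zero => simpa using hH.zero
      | succ c ih => rw [Nat.mul_succ]; exact hH.add ih hHm
    have hq1 : 1 ≤ q := by
      by_contra hq0
      obtain ⟨c, hc⟩ : ∃ c : ℕ, (c : ℤ) = -q := ⟨(-q).toNat, by omega⟩
      refine hno ⟨w hH hm i + m * c, hH.add (w_mem hH hm i) (hmul c), ?_⟩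
      push_cast
      rw [hc, mul_neg]
      omega
    obtain ⟨l, hl, hle⟩ := hbelow _ i le_rfl
    obtain ⟨c, hc⟩ : ∃ c : ℕ, (c : ℤ) = q - 1 := ⟨(q - 1).toNat, by omega⟩
    refine ⟨l + m * c, hH.add hl (hmul c), ?_⟩
    push_cast
    rw [hc, mul_sub, mul_one]
    omega

omit hH hm in
/-- A finite-dimensional algebra with a nondegenerate functional is self-injective. -/
theorem injective_of_functional {κ F : Type*} [Field κ] [CommRing F] [Algebra κ F]
    [FiniteDimensional κ F] (τ : F →ₗ[κ] κ) (h : ∀ x, (∀ y, τ (x * y) = 0) → x = 0) :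
    Module.Baer F F := by
  intro J g
  let φ : F →ₗ[κ] Module.Dual κ F := (LinearMap.mul κ F).compr₂ τ
  have hinj : Function.Injective φ := by
    rw [injective_iff_map_eq_zero]
    exact fun x hx => h x fun y => LinearMap.congr_fun hx y
  have hsurj := (LinearMap.injective_iff_surjective_of_finrank_eq_finrank
    Subspace.dual_finrank_eq.symm).mp hinj
  obtain ⟨ℓ, hℓ⟩ := LinearMap.exists_extend (p := J.restrictScalars κ) (τ ∘ₗ g.restrictScalars κ)
  obtain ⟨a, ha⟩ := hsurj ℓ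
  refine ⟨LinearMap.toSpanSingleton F F a, fun x hx => ?_⟩
  rw [LinearMap.toSpanSingleton_apply, smul_eq_mul, ← sub_eq_zero]
  refine h _ fun y => ?_
  have h1 : τ (a * (x * y)) = ℓ (x * y) := by rw [← ha]; rfl
  have h2 : ℓ (x * y) = τ (g (y • ⟨x, hx⟩)) := by
    have := LinearMap.congr_fun hℓ (y • (⟨x, hx⟩ : J) : J)
    simp only [LinearMap.coe_comp] at this
    rw [mul_comm]
    exact this
  rw [sub_mul, map_sub, show x * a * y = a * (x * y) by ring, h1, h2, map_smul, smul_eq_mul,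
    mul_comm y, sub_self]

end Groth.Agent.Lib.FunFld.Sect.Apery
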