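import Groth.Agent.Lib.FunFld.SectRing
import Groth.Agent.Lib.FunFld.Sect.Apery
import Mathlib.Algebra.Polynomial.Expand
import Mathlib.LinearAlgebra.Basis.Basic

/-! The section ring of a point is free over `k[T, u]` on lifts of the Apéry set. -/

namespace Groth.Agent.Lib.FunFld.Sect.Basis

open WithZero Polynomial
open Groth.Agent.Lib.FunFld Groth.Agent.Lib.FunFld.Sect

universe u v
variable {k : Type u} {K : Type v} [Field k] [Field K] [Algebra k K]

/-- A point, a local parameter and a pole order. -/
structure Setup (P : _root_.FunFld.Place k K) where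
  hK : _root_.FunFld.IsFunctionField k K
  hP : P.deg = 1
  t : K
  ψ : K →ₐ[k] LaurentSeries k
  ht : P.1 t = exp (-1)
  hψ : LocRes.IsExpansionAt P.1 ψ
  m : ℕ
  hm : 0 < m
  hHm : Gaps.IsPole P m

variable {P : _root_.FunFld.Place k K} (D : Setup P)

local notation "RP" => W4c6gradedringsgw.sectRing (Finsupp.single P 1 : _root_.FunFld.Divisor k K)

include D in
theorem semigp : Apery.IsSemigp (Gaps.IsPole P) where
  zero := Gaps.isPole_zero P
  add := fun ha hb => Gaps.isPole_add P ha hb
  cofinal := ⟨2 * _root_.FunFld.genus k K, fun _ hn => Gaps.isPole_of_two_mul_le D.hK D.hP hn⟩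

/-- The leading-coefficient map of the setup. -/
noncomputable abbrev χ : RP →ₐ[k] k[X] := SectRing.lead D.ht D.hψ

/-- The Apéry set. -/
noncomputable abbrev w (i : Fin D.m) : ℕ := Apery.w (semigp D) D.hm i

theorem exists_lift {n : ℕ} (hn : Gaps.IsPole P n) :
    ∃ x : RP, (∃ z, (x : K[X]) = monomial n z) ∧ χ D x = monomial n 1 := by
  obtain ⟨f, -, hf, h⟩ := SectRing.exists_lead_eq_monomial D.ht D.hψ hn (1 : k)
  exact ⟨⟨_, hf⟩, ⟨f, rfl⟩, h⟩

/-- The lifts. -/
noncomputable def e (i : Fin D.m) : RP := (exists_lift D (Apery.w_mem (semigp D) D.hm i)).choose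

theorem e_spec (i : Fin D.m) : (∃ z, (e D i : K[X]) = monomial (w D i) z) ∧ χ D (e D i) = monomial (w D i) 1 :=
  (exists_lift D (Apery.w_mem (semigp D) D.hm i)).choose_spec

/-- The section of pole order `m`. -/
noncomputable def u : RP := (exists_lift D D.hHm).choose

theorem u_spec : (∃ z, (u D : K[X]) = monomial D.m z) ∧ χ D (u D) = monomial D.m 1 :=
  (exists_lift D D.hHm).choose_spec

/-- The section `T`. -/
noncomputable def T (_D : Setup P) : RP :=
  ⟨C (algebraMap k K 1) * X, SectRing.C_mul_X_mem (P := P) 1⟩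

theorem coe_T : (T D : K[X]) = X := by simp [T]

theorem coeff_lead_monomial {n j : ℕ} (x : RP) {z : K} (hx : (x : K[X]) = monomial n z) (h : j ≠ n) :
    (χ D x).coeff j = 0 := by
  rw [SectRing.coeff_lead_eq_zero_iff, hx, coeff_monomial, if_neg (Ne.symm h)]
  exact zero_mem _

theorem lead_monomial {n : ℕ} (x : RP) {z : K} (hx : (x : K[X]) = monomial n z) :
    χ D x = monomial n ((χ D x).coeff n) := by
  ext j
  rw [coeff_monomial]
  split_ifs with h
  · rw [h]
  · exact coeff_lead_monomial D x hx (Ne.symm h)

theorem lead_T : χ D (T D) = 0 := by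
  ext j
  rw [coeff_zero, SectRing.coeff_lead_eq_zero_iff, coe_T, coeff_X]
  split_ifs with h
  · subst h
    rw [Nat.cast_one, sub_self, Finsupp.single_zero]
    exact (Degree.L_zero D.hK).ge ((Submodule.one_eq_range (R := k) (A := K)).ge ⟨1, by simp⟩)
  · exact zero_mem _

/-- The map `k[U][T] → R`. -/
noncomputable def strMap : k[X][X] →+* RP :=
  eval₂RingHom (Polynomial.aeval (u D)).toRingHom (T D)

/-- `R` as an algebra over `k[U][T]`. -/
@[implicit_reducible]
noncomputable def alg : Algebra k[X][X] RP := (strMap D).toAlgebra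

theorem strMap_C_C (c : k) : strMap D (C (C c)) = algebraMap k _ c := by simp [strMap]

theorem strMap_X : strMap D X = T D := by simp [strMap]

theorem strMap_C_X : strMap D (C X) = u D := by simp [strMap]

theorem lead_strMap (s : k[X][X]) : χ D (strMap D s) = expand k D.m (s.coeff 0) := by
  conv_lhs => rw [← X_mul_divX_add s]
  rw [map_add, map_mul, strMap_X, map_add, map_mul, lead_T, zero_mul, zero_add]
  change χ D (eval₂ _ _ (C (s.coeff 0))) = _
  rw [eval₂_C]
  change χ D (aeval (u D) (s.coeff 0)) = _
  rw [← aeval_algHom_apply, (u_spec D).2, monomial_one_right_eq_X_pow, expand_eq_comp_X_pow]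
  rfl

/-- The coefficient of `U^a` in the `i`-th coordinate is read off at `t^(w i + m a)`. -/
theorem coeff_lead_sum (s : Fin D.m → k[X][X]) (i : Fin D.m) (a : ℕ) :
    (χ D (∑ j, strMap D (s j) * e D j)).coeff (w D i + D.m * a) = ((s i).coeff 0).coeff a := by
  rw [map_sum, finsetSum_coeff, Finset.sum_eq_single i]
  · rw [map_mul, lead_strMap, (e_spec D i).2, monomial_one_right_eq_X_pow, coeff_mul_X_pow',
      if_pos (Nat.le_add_right _ _), Nat.add_sub_cancel_left, mul_comm D.m a, coeff_expand_mul D.hm]
  · intro j _ hj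
    rw [map_mul, lead_strMap, (e_spec D j).2, monomial_one_right_eq_X_pow, coeff_mul_X_pow']
    split_ifs with h
    · rw [coeff_expand D.hm, if_neg]
      intro hd
      refine hj (Fin.ext ?_)
      have := (Nat.modEq_iff_dvd' h).mpr hd
      rw [← Apery.w_mod (semigp D) D.hm i, ← Apery.w_mod (semigp D) D.hm j]
      exact this.trans (Nat.add_mul_mod_self_left _ _ _)
    · rfl
  · exact fun h => absurd (Finset.mem_univ i) h

theorem linearIndependent : letI := alg D; LinearIndependent k[X][X] (e D) := by
  let := alg D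
  rw [Fintype.linearIndependent_iff]
  suffices h : ∀ (N : ℕ) (s : Fin D.m → k[X][X]), (∀ i, (s i).natDegree ≤ N) →
      (∑ j, strMap D (s j) * e D j) = 0 → ∀ i, s i = 0 by
    intro s hs
    exact h (Finset.univ.sup fun i => (s i).natDegree) s
      (fun i => Finset.le_sup (f := fun i => (s i).natDegree) (Finset.mem_univ i))
      hs
  intro N
  induction N with
  | zero =>
    intro s hN hs i
    rw [eq_C_of_natDegree_le_zero (hN i)]
    refine C_eq_zero.mpr (Polynomial.ext fun a => ?_)
    rw [← coeff_lead_sum D s i a, hs, map_zero]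
    rfl
  | succ N ih =>
    intro s hN hs i
    have h0 : ∀ j, (s j).coeff 0 = 0 := fun j => Polynomial.ext fun a => by
      rw [← coeff_lead_sum D s j a, hs, map_zero]; rfl
    have hdiv : ∀ j, s j = X * (s j).divX := fun j => by
      conv_lhs => rw [← X_mul_divX_add (s j), h0, C_0, add_zero]
    have hs' : (∑ j, strMap D (s j).divX * e D j) = 0 := by
      have h1 : (∑ j, strMap D (s j) * e D j) = T D * ∑ j, strMap D (s j).divX * e D j := by
        rw [Finset.mul_sum]
        refine Finset.sum_congr rfl fun j _ => ?_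
        conv_lhs => rw [hdiv j, map_mul, strMap_X, mul_assoc]
      rw [hs] at h1
      rcases mul_eq_zero.mp h1.symm with h | h
      · exfalso
        have := congrArg (fun p : RP => (p : K[X]).coeff 1) h
        simp only [coe_T, ZeroMemClass.coe_zero, coeff_X_one, coeff_zero] at this
        exact one_ne_zero this
      · exact h
    rw [hdiv i, ih _ (fun j => by rw [natDegree_divX_eq_natDegree_tsub_one]; have := hN j; omega) hs' i,
      mul_zero]

/-- Homogeneous elements are spanned by the lifts of no higher order, the top one determined by the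
leading coefficient. -/
theorem mem_span_le : letI := alg D; ∀ (n : ℕ) (x : RP) (z : K), (x : K[X]) = monomial n z →
    x ∈ Submodule.span k[X][X] (e D '' {j | w D j ≤ n}) ∧
    ((∀ i, w D i ≠ n) → x ∈ Submodule.span k[X][X] (e D '' {j | w D j < n})) ∧
    ∀ i, w D i = n → x - strMap D (C (C ((χ D x).coeff n))) * e D i ∈
      Submodule.span k[X][X] (e D '' {j | w D j < n}) := by
  let := alg D
  intro n
  induction n using Nat.strong_induction_on with
  | _ n ih =>
  intro x z hx
  have hsmul : ∀ (s : k[X][X]) (y : RP) (S : Submodule k[X][X] RP), y ∈ S → strMap D s * y ∈ S :=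
    fun s y S hy => S.smul_mem s hy
  have hlow : ∀ (y : RP) (z' : K), (y : K[X]) = monomial n z' → χ D y = 0 →
      y ∈ Submodule.span k[X][X] (e D '' {j | w D j < n}) := by
    intro y z' hy h0
    obtain ⟨q, hq⟩ := SectRing.lead_eq_zero_imp D.hK D.hP D.ht D.hψ h0
    obtain _ | l := n
    · have : y = 0 := Subtype.ext (by
        have h1 := congrArg (fun p : K[X] => p.coeff 0) hq
        simp only [hy, coeff_monomial, if_pos, X_mul, coeff_mul_X_zero] at h1
        rw [hy, h1, monomial_zero_right]; rfl)
      rw [this]; exact zero_mem _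
    · have hqm : (q : K[X]) = monomial l z' := by
        refine mul_left_cancel₀ (X_ne_zero (R := K)) ?_
        rw [← hq, hy, X_mul_monomial]
      have : y = strMap D X * q := Subtype.ext (by rw [hq, strMap_X, Subalgebra.coe_mul, coe_T])
      rw [this]
      exact hsmul _ _ _ (Submodule.span_mono (Set.image_mono fun j (hj : w D j ≤ l) =>
        Nat.lt_succ_of_le hj) (ih l (Nat.lt_succ_self l) q z' hqm).1)
  set c := (χ D x).coeff n with hc
  have hC : ∀ i, w D i = n → x - strMap D (C (C c)) * e D i ∈
      Submodule.span k[X][X] (e D '' {j | w D j < n}) := by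
    intro i hi
    obtain ⟨z', hz'⟩ := (e_spec D i).1
    rw [hi] at hz'
    refine hlow _ (z - algebraMap k K c * z') ?_ ?_
    · rw [Subalgebra.coe_sub, Subalgebra.coe_mul, strMap_C_C, Subalgebra.coe_algebraMap, hx, hz',
        Polynomial.algebraMap_apply, C_mul_monomial, map_sub]
    · rw [map_sub, map_mul, (e_spec D i).2, lead_strMap, coeff_C_zero, expand_C, hi, C_mul_monomial,
        mul_one, lead_monomial D x hx, sub_self]
  have hB : (∀ i, w D i ≠ n) → x ∈ Submodule.span k[X][X] (e D '' {j | w D j < n}) := by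
    intro hnot
    by_cases hc0 : c = 0
    · exact hlow x z hx (by rw [lead_monomial D x hx, ← hc, hc0, monomial_zero_right])
    have hn : Gaps.IsPole P n := SectRing.isPole_of_coeff_lead_ne_zero D.ht D.hψ x hc0
    obtain ⟨l, hl, hHl⟩ : ∃ l, l + D.m = n ∧ Gaps.IsPole P l := by
      by_contra hno
      obtain ⟨i, hi⟩ := Apery.eq_w_of_not_sub (semigp D) D.hm hn
        (fun l hl hHl => hno ⟨l, hl, hHl⟩) D.hHm
      exact hnot i hi
    obtain ⟨y, ⟨zy, hy⟩, hylead⟩ := exists_lift D hHl
    obtain ⟨zu, hu⟩ := (u_spec D).1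
    have hlt : l < n := by have := D.hm; omega
    have hyspan : strMap D (C (C c * X)) * y ∈ Submodule.span k[X][X] (e D '' {j | w D j < n}) :=
      hsmul _ _ _ (Submodule.span_mono (Set.image_mono fun j (hj : w D j ≤ l) =>
        lt_of_le_of_lt hj hlt) (ih l hlt y zy hy).1)
    have hrest : x - strMap D (C (C c * X)) * y ∈ Submodule.span k[X][X] (e D '' {j | w D j < n}) := by
      refine hlow _ (z - algebraMap k K c * zu * zy) ?_ ?_
      · rw [Subalgebra.coe_sub, Subalgebra.coe_mul, C_mul, map_mul, strMap_C_C, strMap_C_X,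
          Subalgebra.coe_mul, Subalgebra.coe_algebraMap, hx, hu, hy, Polynomial.algebraMap_apply,
          C_mul_monomial, monomial_mul_monomial, add_comm D.m l, hl, map_sub]
      · rw [map_sub, map_mul, hylead, lead_strMap, coeff_C_zero, map_mul, expand_C, expand_X,
          ← monomial_one_right_eq_X_pow, C_mul_monomial, mul_one, monomial_mul_monomial, mul_one,
          add_comm D.m l, hl, lead_monomial D x hx, sub_self]
    simpa using add_mem hrest hyspan
  refine ⟨?_, hB, hC⟩
  have hmono : Submodule.span k[X][X] (e D '' {j | w D j < n}) ≤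
      Submodule.span k[X][X] (e D '' {j | w D j ≤ n}) :=
    Submodule.span_mono (Set.image_mono fun j (hj : w D j < n) => le_of_lt hj)
  by_cases h : ∃ i, w D i = n
  · obtain ⟨i, hi⟩ := h
    have h1 := hmono (hC i hi)
    have h2 : strMap D (C (C c)) * e D i ∈ Submodule.span k[X][X] (e D '' {j | w D j ≤ n}) :=
      hsmul _ _ _ (Submodule.subset_span ⟨i, hi.le, rfl⟩)
    simpa using add_mem h1 h2
  · exact hmono (hB fun i hi => h ⟨i, hi⟩)

theorem span_eq_top : letI := alg D; Submodule.span k[X][X] (Set.range (e D)) = ⊤ := by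
  let := alg D
  refine eq_top_iff.mpr fun p _ => ?_
  have hm : ∀ n, monomial n ((p : K[X]).coeff n) ∈ RP := fun n =>
    SectRing.monomial_mem P ((SectRing.mem_sectRing_iff P).mp p.2 n)
  have hsum : p = ∑ n ∈ (p : K[X]).support, (⟨_, hm n⟩ : RP) := Subtype.ext (by
    rw [AddSubmonoidClass.coe_finsetSum]
    exact (Polynomial.sum_monomial_eq (p : K[X])).symm)
  rw [hsum]
  exact sum_mem fun n _ => Submodule.span_mono (Set.image_subset_range _ _)
    (mem_span_le D n ⟨_, hm n⟩ _ rfl).1

/-- The basis. -/
noncomputable def basis : letI := alg D; Module.Basis (Fin D.m) k[X][X] RP :=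
  letI := alg D
  Module.Basis.mk (linearIndependent D) (span_eq_top D).ge

theorem basis_apply (i : Fin D.m) : (letI := alg D; basis D i) = e D i := by
  let := alg D
  exact Module.Basis.mk_apply _ _ i

/-- Membership in `(T, u)` is detected on the Apéry set. -/
theorem mem_span_iff (p : RP) :
    p ∈ Ideal.span ({T D, u D} : Set RP) ↔ ∀ i, (χ D p).coeff (w D i) = 0 := by
  constructor
  · intro hp i
    obtain ⟨a, b, rfl⟩ := Ideal.mem_span_pair.mp hp
    rw [map_add, map_mul, map_mul, lead_T, mul_zero, zero_add, (u_spec D).2, monomial_one_right_eq_X_pow, coeff_mul_X_pow']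
    split_ifs with h
    · by_contra h0
      exact Apery.not_mem_sub (semigp D) D.hm i h (SectRing.isPole_of_coeff_lead_ne_zero D.ht D.hψ b h0)
    · rfl
  · intro h
    let := alg D
    have hp : p = ∑ j, strMap D ((basis D).repr p j) * e D j := by
      conv_lhs => rw [← (basis D).sum_repr p]
      exact Finset.sum_congr rfl fun j _ => by rw [basis_apply D j]; rfl
    have hmem : ∀ s : k[X][X], (s.coeff 0).coeff 0 = 0 → strMap D s ∈ Ideal.span ({T D, u D} : Set RP) := by
      intro s hs
      rw [← X_mul_divX_add s, ← X_mul_divX_add (s.coeff 0), hs, C_0, add_zero, C_mul, map_add,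
        map_mul, map_mul, strMap_X, strMap_C_X]
      exact add_mem (Ideal.mul_mem_right _ _ (Ideal.subset_span (by simp)))
        (Ideal.mul_mem_right _ _ (Ideal.subset_span (by simp)))
    rw [hp]
    refine Ideal.sum_mem _ fun j _ => Ideal.mul_mem_right _ _ (hmem _ ?_)
    have := coeff_lead_sum D (fun j => (basis D).repr p j) j 0
    rw [mul_zero, add_zero, ← hp, h j] at this
    exact this.symm

end Groth.Agent.Lib.FunFld.Sect.Basis
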