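import Groth.Agent.Lib.FunFld.Sect.Basis
import Groth.Agent.Lib.Goren.Rings

/-! The section ring of a point is Gorenstein iff the semigroup is symmetric. -/

namespace Groth.Agent.Lib.FunFld.Sect.Gorenstein

open Polynomial IsLocalRing
open Groth.Agent.Lib.FunFld Groth.Agent.Lib.FunFld.Sect

universe u
variable {k : Type u} {K : Type u} [Field k] [Field K] [Algebra k K] {P : _root_.FunFld.Place k K}

local notation "RP" => W4c6gradedringsgw.sectRing (Finsupp.single P 1 : _root_.FunFld.Divisor k K)

open TensorProduct in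
theorem gorenstein_of_symmetric (D : Basis.Setup P) (top : Fin D.m) (op : Fin D.m → Fin D.m)
    (hop : ∀ i, Basis.w D i + Basis.w D (op i) = Basis.w D top) : LocCoh.IsGorensteinRing RP := by
  classical
  let := Basis.alg D
  let b := Basis.basis D
  have := Goren.Rings.isGorensteinRing_of_isRegularRing k
  have hS1 := Goren.Rings.isGorensteinRing_polynomial k
  have hS := Goren.Rings.isGorensteinRing_polynomial k[X]
  have hfin : Module.Finite k[X][X] RP := Module.Finite.of_basis b
  have : IsNoetherianRing RP := isNoetherianRing_iff.mpr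
    (isNoetherian_of_tower k[X][X] (inferInstance : IsNoetherian k[X][X] RP))
  have : Module.Free k[X][X] RP := Module.Free.of_basis b
  -- the pairing
  have key : ∀ i j, (Basis.w D i + Basis.w D j < Basis.w D top → b.repr (Basis.e D i * Basis.e D j) top = 0) ∧
      (Basis.w D i + Basis.w D j = Basis.w D top → b.repr (Basis.e D i * Basis.e D j) top = 1) := by
    intro i j
    obtain ⟨⟨a, ha⟩, hla⟩ := Basis.e_spec D i
    obtain ⟨⟨c, hc⟩, hlc⟩ := Basis.e_spec D j
    have hx : ((Basis.e D i * Basis.e D j : RP) : K[X]) = monomial (Basis.w D i + Basis.w D j) (a * c) := by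
      rw [Subalgebra.coe_mul, ha, hc, monomial_mul_monomial]
    have hzero : ∀ (S : Set (Fin D.m)), top ∉ S → ∀ y ∈ Submodule.span k[X][X] (Basis.e D '' S),
        b.repr y top = 0 := by
      intro S hS y hy
      have hb : (b : Fin D.m → RP) = Basis.e D := funext (Basis.basis_apply D)
      rw [← hb] at hy
      by_contra h0
      exact hS (b.repr_support_subset_of_mem_span S hy (Finsupp.mem_support_iff.mpr h0))
    obtain ⟨h1, -, h3⟩ := Basis.mem_span_le D _ _ _ hx
    refine ⟨fun hlt => hzero _ (fun h : Basis.w D top ≤ _ => by omega) _ h1, fun he => ?_⟩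
    have h := h3 top he.symm
    have hc1 : (Basis.χ D (Basis.e D i * Basis.e D j)).coeff (Basis.w D i + Basis.w D j) = 1 := by
      rw [map_mul, hla, hlc, monomial_mul_monomial, one_mul, coeff_monomial, if_pos rfl]
    rw [hc1, map_one, map_one, map_one, one_mul] at h
    have := hzero _ (fun h : Basis.w D top < _ => by omega) _ h
    rwa [map_sub, ← Basis.basis_apply D top, Finsupp.sub_apply, Module.Basis.repr_self,
      Finsupp.single_eq_same, sub_eq_zero] at this
  refine Goren.Rings.isGorensteinRing_of_flat (R := k[X][X]) fun p _ => ?_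
  let κ := p.ResidueField
  let bF := Algebra.TensorProduct.basis κ b
  have : Module.Finite κ (p.Fiber RP) := Module.Finite.of_basis bF
  have : IsNoetherianRing (p.Fiber RP) := IsNoetherianRing.of_finite κ _
  have hmul : ∀ i j, bF.coord top (bF i * bF j) =
      algebraMap k[X][X] κ (b.repr (Basis.e D i * Basis.e D j) top) := fun i j => by
    simp only [bF, Algebra.TensorProduct.basis_apply, Algebra.TensorProduct.tmul_mul_tmul, one_mul,
      Module.Basis.coord_apply, Algebra.TensorProduct.basis_repr_tmul, one_smul,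
      Finsupp.mapRange_apply, Basis.basis_apply D, b]
  have hinj : Module.Injective (p.Fiber RP) (p.Fiber RP) := by
    refine Module.Baer.injective (Apery.injective_of_functional (bF.coord top) fun x hx => ?_)
    by_contra hx0
    have hne : (Finset.univ.filter fun i => bF.repr x i ≠ 0).Nonempty := by
      by_contra hemp
      refine hx0 (bF.repr.injective (Finsupp.ext fun i => ?_))
      by_contra hi
      exact hemp ⟨i, by simpa using hi⟩
    obtain ⟨i₀, hi₀, hmax⟩ := Finset.exists_max_image _ (Basis.w D) hne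
    rw [Finset.mem_filter] at hi₀
    have := hx (bF (op i₀))
    conv_lhs at this => rw [← bF.sum_repr x, Finset.sum_mul, map_sum]
    rw [Finset.sum_eq_single i₀] at this
    · rw [smul_mul_assoc, map_smul, hmul, (key _ _).2 (hop i₀), map_one, smul_eq_mul, mul_one] at this
      exact hi₀.2 this
    · intro i _ hi
      rcases eq_or_ne (bF.repr x i) 0 with h0 | h0
      · rw [h0, zero_smul, zero_mul, map_zero]
      · have hle := hmax i (Finset.mem_filter.mpr ⟨Finset.mem_univ _, h0⟩)
        have hne' : Basis.w D i ≠ Basis.w D i₀ := fun h =>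
          hi (Apery.w_injective (Basis.semigp D) D.hm h)
        have hlt : Basis.w D i + Basis.w D (op i₀) < Basis.w D top := by
          have := hop i₀; omega
        rw [smul_mul_assoc, map_smul, hmul, (key _ _).1 hlt, map_zero, smul_zero]
    · exact fun h => absurd (Finset.mem_univ i₀) h
  have := (Module.injective_iff_injective_object (p.Fiber RP) (p.Fiber RP)).mp hinj
  exact (Goren.Global.hasInjectiveDimensionLT_iff_gorenstein.mp ⟨1, inferInstance⟩).1

/-- The socle argument, for an abstract ring with leading coefficients. -/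
theorem unique_abstract {A : Type u} [CommRing A] [IsDomain A] [Algebra k A] (hG : LocCoh.IsGorensteinRing A)
    (χ : A →ₐ[k] k[X]) {T u : A} (hT0 : T ≠ 0) (hker : RingHom.ker χ = Ideal.span {T}) (hu : χ u ≠ 0)
    {m : ℕ} (w : Fin m → ℕ) (hw : Function.Injective w) {i₀ : Fin m} (hw0 : w i₀ = 0) (e : Fin m → A)
    (he : ∀ i, χ (e i) = monomial (w i) 1)
    (hJ : ∀ x, x ∈ Ideal.span ({T, u} : Set A) ↔ ∀ j, (χ x).coeff (w j) = 0)
    (H : ℕ → Prop) (hH : ∀ x n, (χ x).coeff n ≠ 0 → H n) (i i' : Fin m)
    (hi : ∀ j l, 0 < l → H l → w i + l ≠ w j) (hi' : ∀ j l, 0 < l → H l → w i' + l ≠ w j) :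
    i = i' := by
  classical
  set J : Ideal A := Ideal.span {T, u} with hJdef
  set I : Ideal A := Ideal.span {T} with hI
  have hIp : I.IsPrime := hker ▸ RingHom.ker_isPrime _
  have hG1 : LocCoh.IsGorensteinRing (A ⧸ I) :=
    Goren.Rings.isGorensteinRing_quotient fun a b h => mul_left_cancel₀ hT0 h
  have hu0 : Ideal.Quotient.mk I u ≠ 0 := fun h => by
    rw [Ideal.Quotient.eq_zero_iff_mem, ← hker, RingHom.mem_ker] at h
    exact hu h
  have : IsDomain (A ⧸ I) := Ideal.Quotient.isDomain _
  have hG2 : LocCoh.IsGorensteinRing ((A ⧸ I) ⧸ Ideal.span {Ideal.Quotient.mk I u}) :=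
    Goren.Rings.isGorensteinRing_quotient fun a b h => mul_left_cancel₀ hu0 h
  have hmap : (Ideal.span {u}).map (Ideal.Quotient.mk I) = Ideal.span {Ideal.Quotient.mk I u} := by
    rw [Ideal.map_span, Set.image_singleton]
  rw [← hmap] at hG2
  have hsup : I ⊔ Ideal.span {u} = J := by
    rw [hI, hJdef, ← Ideal.span_union, Set.singleton_union]
  have hGQ : LocCoh.IsGorensteinRing (A ⧸ J) := by
    have := @Goren.Rings.isGorensteinRing_of_ringEquiv _ _ _ _
      (DoubleQuot.quotQuotEquivQuotSup I (Ideal.span {u})) hG2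
    exact @Goren.Rings.isGorensteinRing_of_ringEquiv _ _ _ _ (Ideal.quotEquivOfEq hsup) this
  let π : A →+* A ⧸ J := Ideal.Quotient.mk J
  have hπ : ∀ x, π x = 0 ↔ ∀ j, (χ x).coeff (w j) = 0 := fun x =>
    Ideal.Quotient.eq_zero_iff_mem.trans (hJ x)
  -- the quotient is local, with nilpotent positive part
  obtain ⟨N, hN⟩ : ∃ N, ∀ j, w j < N :=
    ⟨(Finset.univ.sup w) + 1, fun j => Nat.lt_succ_of_le (Finset.le_sup (Finset.mem_univ j))⟩
  have hnil : ∀ y : A, (χ y).coeff 0 = 0 → IsNilpotent (π y) := fun y hy => by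
    refine ⟨N, ?_⟩
    rw [← map_pow, hπ]
    intro j
    rw [map_pow]
    obtain ⟨q, hq⟩ := X_dvd_iff.mpr hy
    rw [hq, mul_pow, coeff_X_pow_mul', if_neg (by have := hN j; omega)]
  have : Nontrivial (A ⧸ J) := ⟨⟨π 1, 0, fun h => by
    have := (hπ 1).mp h i₀
    rw [map_one, hw0, coeff_one_zero] at this
    exact one_ne_zero this⟩⟩
  have hsplit : ∀ x : A, (χ x).coeff 0 ≠ 0 → IsUnit (π x) := fun x hx => by
    have h1 : (χ (x - algebraMap k A ((χ x).coeff 0))).coeff 0 = 0 := by
      rw [map_sub, AlgHom.commutes, coeff_sub, Polynomial.algebraMap_apply, coeff_C_zero,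
        Algebra.algebraMap_self, RingHom.id_apply, sub_self]
    have h2 : IsUnit (π (algebraMap k A ((χ x).coeff 0))) :=
      ((hx.isUnit).map (algebraMap k A)).map π
    have := (hnil _ h1).isUnit_add_left_of_commute h2 (Commute.all _ _)
    rwa [← map_add, add_sub_cancel] at this
  have : IsLocalRing (A ⧸ J) := IsLocalRing.of_isUnit_or_isUnit_one_sub_self fun a => by
    obtain ⟨x, rfl⟩ := Ideal.Quotient.mk_surjective a
    by_cases hx : (χ x).coeff 0 = 0
    · exact Or.inr (hnil x hx).isUnit_one_sub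
    · exact Or.inl (hsplit x hx)
  have : Module.Finite k (A ⧸ J) := by
    refine Module.Finite.of_surjective (Fintype.linearCombination k fun j => π (e j)) fun a => ?_
    obtain ⟨x, rfl⟩ := Ideal.Quotient.mk_surjective a
    refine ⟨fun j => (χ x).coeff (w j), ?_⟩
    have h : π (∑ l, (χ x).coeff (w l) • e l) = π x := by
      refine Ideal.Quotient.eq.mpr ((hJ _).mpr fun j => ?_)
      rw [map_sub, map_sum, coeff_sub, finsetSum_coeff, Finset.sum_eq_single j]
      · rw [map_smul, he, coeff_smul, coeff_monomial, if_pos rfl, smul_eq_mul, mul_one, sub_self]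
      · intro l _ hl
        rw [map_smul, he, coeff_smul, coeff_monomial, if_neg (fun h => hl (hw h)), smul_zero]
      · exact fun h => absurd (Finset.mem_univ j) h
    rw [Fintype.linearCombination_apply]
    rw [map_sum] at h
    exact h
  have hart : IsArtinianRing (A ⧸ J) := IsArtinianRing.of_finite k (A ⧸ J)
  have hloc : LocCoh.IsGorensteinLocalRing (A ⧸ J) := by
    have h := hGQ.isGorensteinLocalRing_localization (maximalIdeal (A ⧸ J))
    refine (Goren.Flat.isGorensteinLocalRing_ringEquiv_iff (IsLocalization.atUnits (A ⧸ J)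
      (maximalIdeal (A ⧸ J)).primeCompl (S := Localization.AtPrime (maximalIdeal (A ⧸ J)))
      (fun x hx => ?_)).toRingEquiv).mpr h
    exact not_not.mp fun hu => hx ((IsLocalRing.mem_maximalIdeal _).mpr hu)
  have hlen := Goren.Artin.isGorensteinLocalRing_iff_socle.mp hloc
  -- maximal elements give socle elements
  have hmem : ∀ l, (∀ j a, 0 < a → H a → w l + a ≠ w j) →
      π (e l) ∈ LocCoh.torsionBy (maximalIdeal (A ⧸ J)) (A ⧸ J) := fun l hl => by
    rw [Submodule.mem_torsionBySet_iff]
    rintro ⟨a, ha⟩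
    obtain ⟨x, rfl⟩ := Ideal.Quotient.mk_surjective a
    have hx : (χ x).coeff 0 = 0 :=
      not_not.mp fun h => (IsLocalRing.mem_maximalIdeal _).mp ha (hsplit x h)
    change π x * π (e l) = 0
    rw [← map_mul, hπ]
    intro j
    rw [map_mul, he, monomial_one_right_eq_X_pow, coeff_mul_X_pow']
    split_ifs with h
    · by_contra h0
      refine hl j _ ?_ (hH x _ h0) (by omega)
      refine Nat.pos_of_ne_zero fun h1 => h0 ?_
      rw [h1]
      exact hx
    · rfl
  have hsimp := Module.length_eq_one_iff.mp hlen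
  have hne : (⟨_, hmem i hi⟩ : LocCoh.torsionBy (maximalIdeal (A ⧸ J)) (A ⧸ J)) ≠ 0 := fun h => by
    have := (hπ _).mp (congrArg Subtype.val h) i
    rw [he, coeff_monomial, if_pos rfl] at this
    exact one_ne_zero this
  obtain ⟨r, hr⟩ := IsSimpleModule.toSpanSingleton_surjective (A ⧸ J) hne ⟨_, hmem i' hi'⟩
  obtain ⟨x, rfl⟩ := Ideal.Quotient.mk_surjective r
  have h0 : π (x * e i - e i') = 0 := by
    rw [map_sub, map_mul, sub_eq_zero]
    exact congrArg Subtype.val hr
  by_contra hne'
  have h1 := (hπ _).mp h0 i'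
  rw [map_sub, map_mul, coeff_sub, he, he, coeff_monomial, if_pos rfl, monomial_one_right_eq_X_pow,
    coeff_mul_X_pow'] at h1
  split_ifs at h1 with h
  · refine hi i' (w i' - w i) ?_ (hH x _ (fun h0 => by simp [h0] at h1)) (by omega)
    have : w i' ≠ w i := fun h2 => hne' (hw h2.symm)
    omega
  · simp at h1

theorem unique_of_gorenstein (D : Basis.Setup P) (hG : LocCoh.IsGorensteinRing RP) (i i' : Fin D.m)
    (hi : ∀ j l, 0 < l → Gaps.IsPole P l → Basis.w D i + l ≠ Basis.w D j)
    (hi' : ∀ j l, 0 < l → Gaps.IsPole P l → Basis.w D i' + l ≠ Basis.w D j) : i = i' := by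
  refine unique_abstract (A := RP) hG (Basis.χ D) (T := Basis.T D) (u := Basis.u D) (fun h => ?_) ?_ ?_
    (Basis.w D) (Apery.w_injective _ D.hm) (i₀ := ⟨0, D.hm⟩)
    (Nat.le_zero.mp (Apery.w_le _ D.hm (Gaps.isPole_zero P) (Nat.zero_mod _)))
    (Basis.e D) (fun i => (Basis.e_spec D i).2) (Basis.mem_span_iff D) (Gaps.IsPole P)
    (fun x n h => SectRing.isPole_of_coeff_lead_ne_zero D.ht D.hψ x h) i i' hi hi'
  · have := congrArg (fun p : RP => (p : K[X]).coeff 1) h
    simp only [Basis.coe_T, ZeroMemClass.coe_zero, coeff_X_one, coeff_zero] at this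
    exact one_ne_zero this
  · refine le_antisymm (fun p hp => ?_) (Ideal.span_le.mpr (Set.singleton_subset_iff.mpr (Basis.lead_T D)))
    obtain ⟨q, hq⟩ := SectRing.lead_eq_zero_imp D.hK D.hP D.ht D.hψ hp
    exact Ideal.mem_span_singleton.mpr ⟨q, Subtype.ext (by rw [hq, Subalgebra.coe_mul, Basis.coe_T])⟩
  · rw [(Basis.u_spec D).2, Ne, monomial_eq_zero_iff]
    exact one_ne_zero

end Groth.Agent.Lib.FunFld.Sect.Gorenstein
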